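import Groth.Agent.DHA.Compact
import Groth.Agent.DHA.Brown.Envelope
import Groth.Agent.S0978
import Groth.Agent.S0984
import Mathlib.CategoryTheory.ObjectProperty.Small
import Mathlib.CategoryTheory.Comma.StructuredArrow.Small
import Mathlib.Logic.Small.Set
import Mathlib.CategoryTheory.Retract

/-!
# Compact objects of a compactly generated triangulated category form a small category
-/

set_option autoImplicit false
universe v u
open CategoryTheory CategoryTheory.Limits CategoryTheory.Pretriangulated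
open scoped ZeroObject

namespace Groth.Agent.CompactTri.Basic

variable {D : Type u} [Category.{v} D] [Preadditive D] [HasZeroObject D] [HasShift D ℤ]
  [∀ n : ℤ, (shiftFunctor D n).Additive] [Pretriangulated D]

/-- A chosen cone. -/
noncomputable def cone {X Y : D} (f : X ⟶ Y) : D := (distinguished_cocone_triangle f).choose

open scoped Classical in
/-- A chosen image of an idempotent, when there is one. -/
noncomputable def img {X : D} (p : X ⟶ X) : D :=
  if h : ∃ (K : D) (r : Retract K X), r.r ≫ r.i = p then h.choose else X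

/-- One closure step. -/
noncomputable def step (S : Set D) : Set D :=
  S ∪ (Set.range fun t : Σ a : S, Σ b : S, (a.1 ⟶ b.1) => cone t.2.2) ∪
    (Set.range fun t : Σ a : S, (a.1 ⟶ a.1) => img t.2) ∪
    (Set.range fun t : S × ℤ => (shiftFunctor D t.2).obj t.1.1)

variable {ι : Type v} (E : ι → D)

/-- The iterated closure. -/
noncomputable def W : ℕ → Set D
  | 0 => Set.range E ∪ {0}
  | n + 1 => step (W n)

lemma W_mono : Monotone (W E) :=
  monotone_nat_of_le_succ fun _ _ hx => Or.inl (Or.inl (Or.inl hx))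

lemma small_W : ∀ n, Small.{v} (W E n)
  | 0 => by
    unfold W
    infer_instance
  | n + 1 => by
    have := small_W n
    show Small.{v} (step (W E n))
    unfold step
    infer_instance

/-- Objects isomorphic to one in the closure. -/
def InW (K : D) : Prop := ∃ n, ∃ X ∈ W E n, Nonempty (K ≅ X)

lemma inW_cone {X Y : D} (f : X ⟶ Y) {K : D} {g : Y ⟶ K} {h : K ⟶ X⟦(1 : ℤ)⟧}
    (hT : Triangle.mk f g h ∈ distTriang D) (hX : InW E X) (hY : InW E Y) : InW E K := by
  obtain ⟨n, a, ha, ⟨α⟩⟩ := hX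
  obtain ⟨m, b, hb, ⟨β⟩⟩ := hY
  let f' : a ⟶ b := α.inv ≫ f ≫ β.hom
  refine ⟨max n m + 1, cone f', Or.inl (Or.inl (Or.inr
    ⟨⟨⟨a, W_mono E (le_max_left n m) ha⟩, ⟨b, W_mono E (le_max_right n m) hb⟩, f'⟩, rfl⟩)), ?_⟩
  obtain ⟨g', h', hT'⟩ := (distinguished_cocone_triangle f').choose_spec
  obtain ⟨c, h₁, h₂⟩ := complete_distinguished_triangle_morphism _ _ hT hT' α.hom β.hom
    (show f ≫ β.hom = α.hom ≫ f' by simp [f'])
  let φ : Triangle.mk f g h ⟶ Triangle.mk f' g' h' :=
    Triangle.homMk _ _ α.hom β.hom c (show f ≫ β.hom = α.hom ≫ f' by simp [f']) h₁ h₂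
  exact ⟨@asIso _ _ _ _ φ.hom₃ (isIso₃_of_isIso₁₂ φ hT hT' (inferInstanceAs (IsIso α.hom))
    (inferInstanceAs (IsIso β.hom)))⟩

lemma inW_shift {K : D} (n : ℤ) (hK : InW E K) : InW E (K⟦n⟧) := by
  obtain ⟨m, X, hX, ⟨e⟩⟩ := hK
  exact ⟨m + 1, X⟦n⟧, Or.inr ⟨(⟨X, hX⟩, n), rfl⟩, ⟨(shiftFunctor D n).mapIso e⟩⟩

lemma inW_retract {K X : D} (r : Retract K X) (hX : InW E X) : InW E K := by
  obtain ⟨m, a, ha, ⟨α⟩⟩ := hX
  let r' : Retract K a := ⟨r.i ≫ α.hom, α.inv ≫ r.r, by simp⟩
  have h : ∃ (K' : D) (s : Retract K' a), s.r ≫ s.i = r'.r ≫ r'.i := ⟨K, r', rfl⟩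
  refine ⟨m + 1, img (r'.r ≫ r'.i),
    Or.inl (Or.inr ⟨⟨⟨a, ha⟩, r'.r ≫ r'.i⟩, rfl⟩), ?_⟩
  rw [img, dif_pos h]
  obtain ⟨s, hs⟩ := h.choose_spec
  exact ⟨{ hom := r'.i ≫ s.r
           inv := s.i ≫ r'.r
           hom_inv_id := by
            rw [Category.assoc, reassoc_of% hs, r'.retract, Category.comp_id, r'.retract]
           inv_hom_id := by
            refine (Category.assoc _ _ _).trans ?_
            refine (congrArg (s.i ≫ ·) ((Category.assoc _ _ _).symm.trans
              (congrArg (· ≫ s.r) hs.symm))).trans ?_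
            simp }⟩

lemma isTriangulated_inW : ObjectProperty.IsTriangulated (InW E) where
  exists_zero := ⟨0, isZero_zero D, 0, 0, Or.inr rfl, ⟨Iso.refl _⟩⟩
  isStableUnderShiftBy n := ⟨fun _ hK => inW_shift E n hK⟩
  ext₂' T hT h₁ h₃ := ObjectProperty.le_isoClosure _ _
    (inW_cone E _ (inv_rot_of_distTriang _ hT) (inW_shift E (-1) h₃) h₁)

lemma isStableUnderRetracts_inW : ObjectProperty.IsStableUnderRetracts (InW E) :=
  ⟨fun r h => inW_retract E r h⟩

variable [IsTriangulated D] [HasCoproducts.{v} D]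

theorem compact_le_inW [Nonempty ι] (hc : ∀ i, CohDer.IsCompactObject (E i))
    (hg : CohDer.Generates E) (C : D) (hC : CohDer.IsCompactObject C) : InW E C := by
  haveI : HasColimitsOfShape (Discrete ℕ) D :=
    hasColimitsOfShape_of_equivalence (Discrete.equivalence Equiv.ulift.{v})
  obtain ⟨K, f, i, hL, h0, hstep⟩ := Groth.Agent.S0984.result E hc hg C
  obtain ⟨n, ψ, hψ⟩ := Groth.Agent.S0978.exists_factor_of_isHocolim hC hL (𝟙 C)
  obtain ⟨s, X, g, h, hX, hgh⟩ := DHA.Brown.fac_tower hc K f h0 hstep n C hC ψ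
  haveI := isTriangulated_inW E
  haveI := isStableUnderRetracts_inW E
  have hle : DHA.Brown.env E s ≤ InW E := by
    rw [DHA.Brown.env, ObjectProperty.triangEnvelope_le_iff]
    rintro _ ⟨j, -, rfl⟩
    exact ⟨0, E j, Or.inl ⟨j, rfl⟩, ⟨Iso.refl _⟩⟩
  exact inW_retract E ⟨g, h ≫ i n, by rw [← Category.assoc, hgh, hψ]⟩ (hle _ hX)

/-- The compact objects of a compactly generated category are essentially small. -/
theorem essentiallySmall_compact (hD : CohDer.IsCompactlyGenerated D) :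
    ObjectProperty.EssentiallySmall.{v} (fun K : D => CohDer.IsCompactObject K) := by
  obtain ⟨ι, E, hc, hg⟩ := hD
  let E' : Option ι → D := fun o => o.elim 0 E
  have hc' : ∀ o, CohDer.IsCompactObject (E' o) := fun o => by
    cases o with
    | none => exact DHA.Compact.zero (isZero_zero D)
    | some i => exact hc i
  have hg' : CohDer.Generates E' := fun K hK => hg K fun i n f => hK (some i) n f
  have : ∀ n, Small.{v} (W E' n) := small_W E'
  exact ⟨fun X => X ∈ ⋃ n, W E' n, inferInstanceAs (Small.{v} (⋃ n, W E' n : Set D)),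
    fun C hC => by
      obtain ⟨n, X, hX, e⟩ := compact_le_inW E' hc' hg' C hC
      exact ⟨X, Set.mem_iUnion.2 ⟨n, hX⟩, e⟩⟩

end Groth.Agent.CompactTri.Basic
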